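import Mathlib.AlgebraicTopology.SimplicialObject.Homotopy
import Mathlib.AlgebraicTopology.CechNerve

/-! # Homotopies between maps of Čech-type simplicial objects -/

set_option autoImplicit false
set_option linter.all false
set_option backward.isDefEq.respectTransparency false
set_option backward.isDefEq.respectTransparency.types false
universe v u

open CategoryTheory Opposite Simplicial

namespace GrothLib.CechNerveHtpy25

variable {C : Type u} [Category.{v} C]

/-- The index map of the `i`-th prism. -/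
def idx {n : ℕ} (i : Fin (n + 1)) (k : Fin (n + 2)) : Fin (n + 1) := i.predAbove k

theorem val_predAbove {n : ℕ} (i : Fin n) (k : Fin (n + 1)) :
    (i.predAbove k : ℕ) = if (i : ℕ) < k then (k : ℕ) - 1 else k := by
  unfold Fin.predAbove
  split_ifs with h h' h' <;> simp [Fin.lt_def] at h ⊢ <;> omega

theorem val_succAbove {n : ℕ} (i : Fin (n + 1)) (k : Fin n) :
    (i.succAbove k : ℕ) = if (k : ℕ) < i then (k : ℕ) else k + 1 := by
  unfold Fin.succAbove
  split_ifs with h h' h' <;> simp [Fin.lt_def] at h ⊢ <;> omega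

set_option maxHeartbeats 1000000 in
theorem nonempty_homotopy {X Y : SimplicialObject C} {A B : C}
    (πX : ∀ n : SimplexCategory, Fin (n.len + 1) → (X.obj (op n) ⟶ A))
    (πY : ∀ n : SimplexCategory, Fin (n.len + 1) → (Y.obj (op n) ⟶ B))
    (hX : ∀ {m n : SimplexCategory} (θ : m ⟶ n) k, X.map θ.op ≫ πX m k = πX n (θ.toOrderHom k))
    (hY : ∀ {m n : SimplexCategory} (θ : m ⟶ n) k, Y.map θ.op ≫ πY m k = πY n (θ.toOrderHom k))
    (hext : ∀ (n : SimplexCategory) {W : C} (a b : W ⟶ Y.obj (op n)), (∀ k, a ≫ πY n k = b ≫ πY n k) → a = b)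
    (φ ψ : A ⟶ B) (f g : X ⟶ Y)
    (hf : ∀ n k, f.app (op n) ≫ πY n k = πX n k ≫ φ) (hg : ∀ n k, g.app (op n) ≫ πY n k = πX n k ≫ ψ)
    (hlift : ∀ (n : ℕ) (c : Fin (n + 2) → Bool) (p : Fin (n + 2) → Fin (n + 1)),
      ∃ l : X.obj (op ⦋n⦌) ⟶ Y.obj (op ⦋n + 1⦌),
        ∀ k, l ≫ πY ⦋n + 1⦌ k = πX ⦋n⦌ (p k) ≫ if c k then φ else ψ) :
    Nonempty (SimplicialObject.Homotopy f g) := by
  choose l hl using fun (n : ℕ) (i : Fin (n + 1)) =>
    hlift n (fun k => decide (k ≤ i.castSucc)) (idx i)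
  have hd : ∀ {n : ℕ} (j : Fin (n + 2)) (k : Fin (n + 1)), Y.δ j ≫ πY ⦋n⦌ k = πY ⦋n + 1⦌ (j.succAbove k) :=
    fun j k => hY (SimplexCategory.δ j) k
  have hs : ∀ {n : ℕ} (j : Fin (n + 1)) (k : Fin (n + 2)), Y.σ j ≫ πY ⦋n + 1⦌ k = πY ⦋n⦌ (j.predAbove k) :=
    fun j k => hY (SimplexCategory.σ j) k
  have hd' : ∀ {n : ℕ} (j : Fin (n + 2)) (k : Fin (n + 1)), X.δ j ≫ πX ⦋n⦌ k = πX ⦋n + 1⦌ (j.succAbove k) :=
    fun j k => hX (SimplexCategory.δ j) k
  have hs' : ∀ {n : ℕ} (j : Fin (n + 1)) (k : Fin (n + 2)), X.σ j ≫ πX ⦋n + 1⦌ k = πX ⦋n⦌ (j.predAbove k) :=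
    fun j k => hX (SimplexCategory.σ j) k
  have hcongr : ∀ {n : ℕ} {p p' : Fin (n + 1)} {c c' : Prop} [Decidable c] [Decidable c'], p = p' → (c ↔ c') →
      πX ⦋n⦌ p ≫ (if decide c then φ else ψ) = πX ⦋n⦌ p' ≫ (if decide c' then φ else ψ) := by
    intro n p p' c c' _ _ hp hc
    subst hp
    simp [hc]
  refine ⟨{
    h := fun {n} i => l n i
    h_zero_comp_δ_zero := fun n => hext _ _ _ fun k => ?_
    h_last_comp_δ_last := fun n => hext _ _ _ fun k => ?_
    h_succ_comp_δ_castSucc_of_lt := fun {n} i j hij => hext _ _ _ fun k => ?_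
    h_succ_comp_δ_castSucc_succ := fun {n} j => hext _ _ _ fun k => ?_
    h_castSucc_comp_δ_succ_of_lt := fun {n} i j hji => hext _ _ _ fun k => ?_
    h_comp_σ_castSucc_of_le := fun {n} i j hij => hext _ _ _ fun k => ?_
    h_comp_σ_succ_of_lt := fun {n} i j hji => hext _ _ _ fun k => ?_ }⟩
  · refine ((Category.assoc _ _ _).trans ((congrArg (l n 0 ≫ ·) (hd 0 k)).trans (hl n 0 _))).trans ?_
    refine Eq.trans ?_ (hg _ k).symm
    simp [idx]
  · refine ((Category.assoc _ _ _).trans ((congrArg (l n _ ≫ ·) (hd _ k)).trans (hl n _ _))).trans ?_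
    refine Eq.trans ?_ (hf _ k).symm
    simp [idx, Fin.succAbove_last, Fin.predAbove, Fin.le_last, dif_neg (not_lt.2 (Fin.le_last k))]
  all_goals rw [Category.assoc, Category.assoc]
  all_goals simp only [hd, hs]
  all_goals rw [hl, hl]
  all_goals (try simp only [← Category.assoc, hd', hs'])
  all_goals refine hcongr ?_ ?_
  all_goals simp only [idx, Fin.ext_iff, Fin.le_def, Fin.lt_def, val_predAbove, val_succAbove, Fin.val_succ,
    Fin.val_castSucc] at *
  all_goals (split_ifs <;> omega)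

end GrothLib.CechNerveHtpy25
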